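import Cfsg.Agent.H619.SB.FiW.Norm
import Cfsg.Agent.H740.RatM.Perm
import Cfsg.Agent.BpSpor.MBigEleven
import Cfsg.Agent.H30.GraphFi24A

/-!
# The sum of three axis vectors in the representation of degree 196883 (helper619)

`x` of order three of the Monster with `N(⟨x⟩)/⟨x⟩ ≅ Fi24`, `b` a transposition: there is a vector fixed by `x` and by
the elements of `C(x)` over `C(b)`, not fixed by `C(x)`.
-/

set_option autoImplicit false
set_option maxRecDepth 100000

namespace Cfsg.Agent.H619.SB.FiW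

open Cfsg Cfsg.Agent.H849.ThreeNorm
open Cfsg.Agent.MonsterX Cfsg.Agent.MonsterX.InstData Cfsg.Agent.MonsterX.MainPack
open Cfsg.Agent.MonsterP Cfsg.Agent.MonsterN
open Cfsg.Agent.R08 Cfsg.Agent.R08.FiTwentyFour
open Cfsg.Agent.H816.MEigL Cfsg.Agent.H816.MSch Cfsg.Agent.H816.MDeg Cfsg.Agent.H816.IMEig Cfsg.Agent.H816.IMEig.Col
open Cfsg.Spor (Fi24)
open Cfsg.Agent.BpSpor.MBigModel (MG zz cls card_cent_z)
open Subgroup (centralizer mem_centralizer_singleton_iff zpowers center)
open scoped BigOperators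

/-- the spherical function of degree 196883 -/
noncomputable def om : Fin 9 → ℂ := fun u => (vec [752, 80, -16, 23, -4, 8, -4, 2, -1] u : ℂ) / ((752 : ℤ) : ℂ)

theorem om_zero : om 0 = 1 := by
  unfold om
  norm_num [vec]

/-- a point with stabilizer `C(v)` -/
theorem exists_point {v : MG} (hv : LThreeB.Row.TA v) : ∃ p : XT, ∀ g : MG, g • p = p ↔ g * v = v * g := by
  have h0 : IsConj (tG LitFin.all.hG LitFin.all.hR) v := hv
  obtain ⟨c, hc⟩ := isConj_iff.1 h0
  refine ⟨c • b0, fun g => ?_⟩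
  have h1 : ∀ g : MG, g • b0 = b0 ↔ g * tG LitFin.all.hG LitFin.all.hR = tG LitFin.all.hG LitFin.all.hR * g := by
    intro g
    rw [← mem_centralizer_singleton_iff, mem_cent_t_iff' LitFin.all.hG LitFin.all.hR LitFin.all.hL LitFin.all.hO
      LitFin.all.hT g, Subtype.ext_iff]
    rfl
  have h2 : g • c • b0 = c • b0 ↔ (c⁻¹ * g * c) • b0 = b0 := by
    rw [mul_smul, mul_smul, inv_smul_eq_iff]
  rw [h2, h1, ← hc]
  constructor
  · intro h
    calc g * (c * _ * c⁻¹) = c * ((c⁻¹ * g * c) * tG LitFin.all.hG LitFin.all.hR) * c⁻¹ := by group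
      _ = c * (tG LitFin.all.hG LitFin.all.hR * (c⁻¹ * g * c)) * c⁻¹ := by rw [h]
      _ = _ := by group
  · intro h
    calc c⁻¹ * g * c * tG LitFin.all.hG LitFin.all.hR
        = c⁻¹ * (g * (c * tG LitFin.all.hG LitFin.all.hR * c⁻¹)) * c := by group
      _ = c⁻¹ * (c * tG LitFin.all.hG LitFin.all.hR * c⁻¹ * g) * c := by rw [h]
      _ = _ := by group

section

variable {x r : MG} {π : centralizer ({x} : Set MG) →* ↥(_root_.commutator Fi24)} (D : Data x r π)
include D

/-- the order of the stabilizer of a transposition -/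
theorem dvd_stab {b : Fi24} (hb : b ∈ L) : ∃ H : Subgroup ↥(_root_.commutator Fi24),
    (∀ y ∈ H, (y : Fi24) * b = b * y) ∧ 17 ∣ Nat.card H := by
  have hfin : Finite Fi24 := finite_Fi24
  let _ := H30.GraphFi24.act
  have hR := H30.GraphFi24.r3
  let b' : (L : Set Fi24) := ⟨b, hb⟩
  have := hR.trans
  refine ⟨MulAction.stabilizer Spor.Fi24' b', fun y hy => ?_, ?_⟩
  · have h1 : y • b' = b' := hy
    have h2 : (y : Fi24) * b * (y : Fi24)⁻¹ = b := congrArg Subtype.val h1
    exact mul_inv_eq_iff_eq_mul.1 h2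
  · have h1 := MulAction.index_stabilizer_of_transitive Spor.Fi24' b'
    have h2 := (MulAction.stabilizer Spor.Fi24' b').index_mul_card
    rw [h1, hR.cardn, show Nat.card Spor.Fi24' = 1255205709190661721292800 from card_commutator] at h2
    have h3 : Nat.card (MulAction.stabilizer Spor.Fi24' b') = 4089470473293004800 := by omega
    rw [h3]
    norm_num

theorem ta_of {b : Fi24} (hb : b ∈ L) {n : MG} (hnn : n * n = 1) (hnx : n * x * n⁻¹ = x⁻¹)
    (hl : ∀ y : ↥(_root_.commutator Fi24), (y : Fi24) * b = b * y →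
      ∃ k : centralizer ({x} : Set MG), (k : MG) * n = n * k ∧ π k = y) : LThreeB.Row.TA n := by
  have hfin : Finite MG := BpSpor.MBigModel.finite
  have hn1 : n ≠ 1 := by
    rintro rfl
    rw [one_mul, inv_one, mul_one] at hnx
    exact ne_inv D.ord hnx
  have hno : orderOf n = 2 := by
    have : Fact (Nat.Prime 2) := ⟨Nat.prime_two⟩
    exact orderOf_eq_prime (by rw [pow_two, hnn]) hn1
  obtain ⟨H, hH, h17⟩ := dvd_stab D hb
  refine (cls hno).resolve_left ?_
  rintro ⟨g, hg⟩
  have h1 : 17 ∣ Nat.card ↥(centralizer ({n} : Set MG)) := by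
    let A : Subgroup (centralizer ({x} : Set MG)) := (centralizer ({n} : Set MG)).subgroupOf (centralizer ({x} : Set MG))
    have h2 : H ≤ A.map π := by
      intro y hy
      obtain ⟨k, hk, hky⟩ := hl y (hH y hy)
      exact ⟨k, mem_centralizer_singleton_iff.2 hk, hky⟩
    have h3 : Nat.card A ∣ Nat.card ↥(centralizer ({n} : Set MG)) := by
      refine Subgroup.card_dvd_of_injective
        ({ toFun := fun a => ⟨((a : centralizer ({x} : Set MG)) : MG), a.2⟩, map_one' := rfl, map_mul' := fun _ _ => rfl } :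
          A →* ↥(centralizer ({n} : Set MG))) ?_
      intro a a' h
      exact Subtype.ext (Subtype.ext (congrArg (fun w : ↥(centralizer ({n} : Set MG)) => (w : MG)) h))
    exact ((h17.trans (Subgroup.card_dvd_of_le h2)).trans (Subgroup.card_map_dvd A π)).trans h3
  rw [BpSpor.card_cent_of_conj hg, card_cent_z] at h1
  norm_num at h1

variable [Fintype XT] [DecidableEq XT]

omit D in
/-- the integral values -/
def oi : Fin 9 → ℤ := vec [752, 80, -16, 23, -4, 8, -4, 2, -1]

omit D in
theorem oi_le : ∀ u : Fin 9, u ≠ 0 → oi u ≤ 80 := by decide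

omit D in
theorem le_oi : ∀ u : Fin 9, -16 ≤ oi u := by decide

omit D in
theorem oi_zero : oi 0 = 752 := by decide

omit D in
theorem om_eq (u : Fin 9) : om u = (oi u : ℂ) / 752 := by
  unfold om oi
  norm_num

/-- **The vector.** -/
theorem exists_u {b : Fi24} (hb : b ∈ L) : ∃ u ∈ WW c om, prep MG XT x u = u ∧
    (∀ k : centralizer ({x} : Set MG), (π k : Fi24) * b = b * π k → prep MG XT (k : MG) u = u) ∧
    ∃ k : centralizer ({x} : Set MG), prep MG XT (k : MG) u ≠ u := by
  have hfin : Finite MG := BpSpor.MBigModel.finite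
  obtain ⟨n, hnn, hnx, hn1, hn2⟩ := exists_lift D hb
  obtain ⟨p, hp⟩ := exists_point (ta_of D hb hnn hnx hn2)
  have hx3 : x * x * x = 1 := by
    have h := pow_orderOf_eq_one x
    rw [D.ord] at h
    rw [← pow_two, ← pow_succ]
    exact h
  set u : XT → ℂ := ee c om p + ee c om (x • p) + ee c om (x • x • p) with hu
  have hxu : prep MG XT x u = u := by
    rw [hu, map_add, map_add, isCol.prep_ee, isCol.prep_ee, isCol.prep_ee]
    have h1 : x • x • x • p = p := by rw [← mul_smul, ← mul_smul, hx3, one_smul]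
    rw [h1]
    ring
  have hxz : ∀ m : ℤ, prep MG XT (x ^ m) u = u := by
    intro m
    obtain ⟨k, hk⟩ : ∃ k : ℕ, x ^ m = x ^ k := by
      refine ⟨(m % 3).toNat, ?_⟩
      have h1 := zpow_mod_orderOf x m
      rw [D.ord] at h1
      rw [← h1, ← zpow_natCast, Int.toNat_of_nonneg (Int.emod_nonneg _ (by norm_num))]
      norm_num
    rw [hk]
    induction k generalizing m with
    | zero => rw [pow_zero, map_one]; rfl
    | succ k ih =>
      rw [pow_succ, map_mul]
      show prep MG XT (x ^ k) (prep MG XT x u) = u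
      rw [hxu]
      exact ih (k : ℤ) (by rw [zpow_natCast])
  refine ⟨u, ?_, hxu, ?_, ?_⟩
  · exact add_mem (add_mem (Submodule.subset_span ⟨_, rfl⟩) (Submodule.subset_span ⟨_, rfl⟩)) (Submodule.subset_span ⟨_, rfl⟩)
  · intro k hk
    obtain ⟨k₀, hk0, hpk⟩ := hn2 (π k) hk
    have h1 : π (k₀⁻¹ * k) = 1 := by rw [map_mul, map_inv, hpk, inv_mul_cancel]
    obtain ⟨m, hm⟩ := Subgroup.mem_zpowers_iff.1 ((D.ker _).1 h1)
    have h2 : (k : MG) = k₀ * x ^ m := by
      rw [hm, Subgroup.coe_mul, Subgroup.coe_inv, mul_inv_cancel_left]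
    have hkx : (k₀ : MG) * x = x * k₀ := mem_centralizer_singleton_iff.1 k₀.2
    have hkp : (k₀ : MG) • p = p := (hp _).2 hk0
    rw [h2, map_mul]
    show prep MG XT (k₀ : MG) (prep MG XT (x ^ m) u) = u
    rw [hxz, hu, map_add, map_add, isCol.prep_ee, isCol.prep_ee, isCol.prep_ee]
    have h3 : (k₀ : MG) • x • p = x • p := by rw [← mul_smul, hkx, mul_smul, hkp]
    have h4 : (k₀ : MG) • x • x • p = x • x • p := by rw [← mul_smul, hkx, mul_smul, h3]
    rw [hkp, h3, h4]
  · obtain ⟨g, hg⟩ := exists_not_comm D hb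
    refine ⟨g, fun h => ?_⟩
    have hne : ∀ m : ℤ, (g : MG) • x ^ m • p ≠ p := by
      intro m h1
      rw [← mul_smul, hp] at h1
      have hsx : x ^ m ∈ centralizer ({x} : Set MG) :=
        mem_centralizer_singleton_iff.2 ((Commute.refl x).zpow_left m)
      have h2 := hn1 (g * ⟨x ^ m, hsx⟩) h1
      rw [map_mul, (D.ker ⟨x ^ m, hsx⟩).2 (Subgroup.mem_zpowers_iff.2 ⟨m, rfl⟩), mul_one] at h2
      exact hg h2
    have h1 := congrFun h p
    rw [hu, map_add, map_add, isCol.prep_ee, isCol.prep_ee, isCol.prep_ee] at h1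
    have h2 : om (c p ((g : MG) • p)) + om (c p ((g : MG) • x • p)) + om (c p ((g : MG) • x • x • p)) =
        om (c p p) + om (c p (x • p)) + om (c p (x • x • p)) := h1
    simp only [om_eq] at h2
    have h3 : oi (c p ((g : MG) • p)) + oi (c p ((g : MG) • x • p)) + oi (c p ((g : MG) • x • x • p)) =
        oi (c p p) + oi (c p (x • p)) + oi (c p (x • x • p)) := by
      have h4 : ((oi (c p ((g : MG) • p)) + oi (c p ((g : MG) • x • p)) + oi (c p ((g : MG) • x • x • p)) : ℤ) : ℂ) =
          ((oi (c p p) + oi (c p (x • p)) + oi (c p (x • x • p)) : ℤ) : ℂ) := by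
        push_cast
        linear_combination 752 * h2
      exact_mod_cast h4
    have h5 : c p p = 0 := (c_diag p p).2 rfl
    have hz : ∀ q : XT, q ≠ p → oi (c p q) ≤ 80 := fun q hq => oi_le _ fun h => hq ((c_diag p q).1 h).symm
    have e0 := hz _ (by simpa using hne 0)
    have e1 := hz ((g : MG) • x • p) (by have := hne 1; rwa [zpow_one] at this)
    have e2 := hz ((g : MG) • x • x • p) (by have := hne 2; rwa [zpow_ofNat, pow_two, mul_smul] at this)
    have e3 := le_oi (c p (x • p))
    have e4 := le_oi (c p (x • x • p))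
    rw [h5, oi_zero] at h3
    omega

end

end Cfsg.Agent.H619.SB.FiW
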