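import Cfsg.Agent.H619.SB.FiW.Rho
import Cfsg.Agent.H894.SB.Link
import Cfsg.Agent.H300.SB.ChrBound
import Cfsg.Agent.H480.Ore.BFiType

/-!
# The degree of the character `ψ` of `Fi24'` (helper619)

`ψ 1` is odd and at most 71483.
-/

set_option autoImplicit false
set_option maxRecDepth 100000

namespace Cfsg.Agent.H619.SB.FiW

open Cfsg Cfsg.Agent.H849.ThreeNorm
open Cfsg.Agent.MonsterX Cfsg.Agent.MonsterX.InstData
open Cfsg.Agent.Characters Cfsg.Agent.Characters.Core
open Cfsg.Agent.R08 Cfsg.Agent.R08.FiTwentyFour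
open Cfsg.Agent.H816.MSch Cfsg.Agent.H816.IMEig Cfsg.Agent.H816.IMEig.Col
open Cfsg.Spor (Fi24)
open Cfsg.Agent.BpSpor.MBigModel (MG)
open Cfsg.Agent.LThreeMBTr (chr)
open Subgroup (centralizer mem_centralizer_singleton_iff zpowers center)
open scoped BigOperators

variable {x r : MG} {π : centralizer ({x} : Set MG) →* ↥(_root_.commutator Fi24)} (D : Data x r π)
  [Fintype XT] [DecidableEq XT]

theorem rho_int (g : MG) : ∃ z : ℤ, rho.character g = z := by
  have hfin : Finite MG := BpSpor.MBigModel.finite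
  exact GaloisBasic.exists_int_of_isIntegral (GaloisBasic.isIntegral_apply (isIrr_isCharacter rho_irr) g) (rho_rat g)

theorem rho_chr (g : MG) : rho.character g = ((chr Space.V g : ℚ) : ℂ) - 1 := H894.SB.Link.link g

include D

omit [Fintype XT] [DecidableEq XT] in
theorem abs_chr_le : |chr Space.V x| ≤ 6000 := by
  have hker : π.ker = LThreeMB.Zx x := by
    ext k
    rw [MonoidHom.mem_ker, D.ker, LThreeMB.Zx]
    show (k : MG) ∈ zpowers x ↔ k ∈ zpowers (LThreeMB.self x)
    rw [Subgroup.mem_zpowers_iff, Subgroup.mem_zpowers_iff]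
    constructor
    · rintro ⟨n, hn⟩
      exact ⟨n, Subtype.ext hn⟩
    · rintro ⟨n, hn⟩
      exact ⟨n, congrArg Subtype.val hn⟩
  let f' : LThreeMB.XX x ≃* Spor.Fi24' :=
    (QuotientGroup.quotientMulEquivOfEq hker.symm).trans (QuotientGroup.quotientKerEquivOfSurjective π D.surj)
  obtain ⟨x', g, hx', hg, hfr⟩ := H480.Ore.exists_cz D.ord f'
  have h1 := H300.SB.ChrBound.abs_chr_le hfr
  have h2 : chr Space.V x = chr Space.V (x' : MG) := by
    rw [← hg, LThreeMBTr.chr_conj]
  rw [h2]
  exact h1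

omit [Fintype XT] [DecidableEq XT] in
/-- the kernel is `{1, x, x²}` -/
theorem sum_ker [Fintype π.ker] (f : MG → ℂ) :
    ∑ n : π.ker, f (((n : centralizer ({x} : Set MG)) : MG)) = f 1 + (f x + f (x * x)) := by
  classical
  have hx3 : x ^ 3 = 1 := by rw [← D.ord, pow_orderOf_eq_one]
  have hx1 : x ≠ 1 := fun h => by have := D.ord; rw [h, orderOf_one] at this; omega
  have hinv : x * x = x⁻¹ := by
    rw [eq_inv_iff_mul_eq_one, ← hx3, pow_succ, pow_two]
  have hne : x ≠ x⁻¹ := H849.ThreeNorm.ne_inv D.ord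
  have hxc : x ∈ centralizer ({x} : Set MG) := mem_centralizer_singleton_iff.2 rfl
  have h1 : ∑ n : π.ker, f (((n : centralizer ({x} : Set MG)) : MG)) = ∑ y ∈ ({1, x, x * x} : Finset MG), f y := by
    refine Finset.sum_bij (fun n _ => ((n : centralizer ({x} : Set MG)) : MG)) ?_ ?_ ?_ ?_
    · intro n _
      have h2 : ((n : centralizer ({x} : Set MG)) : MG) ∈ zpowers x := (D.ker _).1 n.2
      rcases H849.ThreeNorm.mem_zp D.ord h2 with h | h | h
      · rw [h]; simp
      · rw [h]; simp
      · rw [h, hinv]; simp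
    · intro n _ m _ h
      exact Subtype.ext (Subtype.ext h)
    · intro y hy
      have hy2 : y ∈ zpowers x := by
        simp only [Finset.mem_insert, Finset.mem_singleton] at hy
        rcases hy with rfl | rfl | rfl
        · exact one_mem _
        · exact Subgroup.mem_zpowers _
        · exact mul_mem (Subgroup.mem_zpowers _) (Subgroup.mem_zpowers _)
      have hyc : y ∈ centralizer ({x} : Set MG) := by
        have h3 : zpowers x ≤ centralizer ({x} : Set MG) := by
          rw [Subgroup.zpowers_le]; exact hxc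
        exact h3 hy2
      exact ⟨⟨⟨y, hyc⟩, (D.ker ⟨y, hyc⟩).2 hy2⟩, Finset.mem_univ _, rfl⟩
    · intro n _
      rfl
  rw [h1, Finset.sum_insert, Finset.sum_insert, Finset.sum_singleton]
  · rw [Finset.mem_singleton, hinv]
    exact hne
  · rw [Finset.mem_insert, Finset.mem_singleton, hinv]
    rintro (h | h)
    · exact hx1 h.symm
    · exact hx1 (inv_eq_one.1 h.symm)

omit [Fintype XT] [DecidableEq XT] in
theorem card_ker : Nat.card π.ker = 3 := by
  classical
  have hfin : Finite MG := BpSpor.MBigModel.finite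
  letI := Fintype.ofFinite π.ker
  have h := sum_ker D (fun _ => 1)
  rw [Finset.sum_const, Finset.card_univ, ← Nat.card_eq_fintype_card, nsmul_eq_mul, mul_one] at h
  have h2 : ((Nat.card π.ker : ℕ) : ℂ) = ((3 : ℕ) : ℂ) := by rw [h]; norm_num
  exact_mod_cast h2

/-- the value of `ψ` in the form of a sum of three terms -/
theorem psi_eq {ψ : Spor.Fi24' → ℂ} (h : ∀ [Fintype π.ker] (k : centralizer ({x} : Set MG)),
      ψ (π k) = (Nat.card π.ker : ℂ)⁻¹ * ∑ n : π.ker, rho.character (((n : centralizer ({x} : Set MG)) * k :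
        centralizer ({x} : Set MG)) : MG)) (k : centralizer ({x} : Set MG)) :
    ψ (π k) = (3 : ℂ)⁻¹ * (rho.character (k : MG) + (rho.character ((k : MG) * x) + rho.character ((k : MG) * (x * x)))) := by
  classical
  have hfin : Finite MG := BpSpor.MBigModel.finite
  letI := Fintype.ofFinite π.ker
  have hk : (k : MG) * x = x * (k : MG) := mem_centralizer_singleton_iff.1 k.2
  have h1 := sum_ker D (fun y => rho.character (y * (k : MG)))
  rw [h k, card_ker D]
  have h2 : ∑ n : π.ker, rho.character (((n : centralizer ({x} : Set MG)) * k : centralizer ({x} : Set MG)) : MG) =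
      ∑ n : π.ker, rho.character (((n : centralizer ({x} : Set MG)) : MG) * (k : MG)) := rfl
  rw [h2, h1, one_mul, hk, show (k : MG) * (x * x) = x * x * (k : MG) by
    rw [← mul_assoc, hk, mul_assoc, hk, mul_assoc]]
  norm_num

theorem deg {ψ : Spor.Fi24' → ℂ} (hψ : IsCharacter Spor.Fi24' ψ) (h : ∀ [Fintype π.ker] (k : centralizer ({x} : Set MG)),
      ψ (π k) = (Nat.card π.ker : ℂ)⁻¹ * ∑ n : π.ker, rho.character (((n : centralizer ({x} : Set MG)) * k :
        centralizer ({x} : Set MG)) : MG)) : ∃ d : ℕ, ψ 1 = d ∧ Odd d ∧ d ≤ 71483 := by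
  have hfin : Finite MG := BpSpor.MBigModel.finite
  obtain ⟨d, hd⟩ := isCharacter_apply_one hψ
  refine ⟨d, hd, ?_⟩
  have h1 := psi_eq D h 1
  rw [map_one, hd, Subgroup.coe_one, one_mul, one_mul] at h1
  have hinv : x * x = x⁻¹ := by
    have hx3 : x ^ 3 = 1 := by rw [← D.ord, pow_orderOf_eq_one]
    rw [eq_inv_iff_mul_eq_one, ← hx3, pow_succ, pow_two]
  have h2 : rho.character (x * x) = rho.character x := by
    rw [hinv, ← D.inv]
    exact Representation.char_conj _ _ _
  obtain ⟨v, hv⟩ := rho_int x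
  rw [h2, rho_one, hv] at h1
  have h3 : ((3 * d : ℤ) : ℂ) = ((196883 + 2 * v : ℤ) : ℂ) := by
    push_cast
    rw [h1]
    ring
  have h4 : 3 * (d : ℤ) = 196883 + 2 * v := by exact_mod_cast h3
  have h5 := abs_chr_le D
  have h6 : ((v : ℤ) : ℂ) = ((chr Space.V x : ℚ) : ℂ) - 1 := by rw [← hv]; exact rho_chr x
  have h7 : (v : ℚ) = chr Space.V x - 1 := by
    have h8 : (((v : ℚ)) : ℂ) = ((chr Space.V x - 1 : ℚ) : ℂ) := by push_cast; exact h6
    exact_mod_cast h8
  rw [abs_le] at h5
  have h9 : (v : ℚ) ≤ 5999 := by rw [h7]; linarith [h5.2]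
  have h10 : v ≤ 5999 := by exact_mod_cast h9
  constructor
  · rw [← Int.odd_coe_nat]
    rcases Int.even_or_odd (d : ℤ) with ⟨m, hm⟩ | h11
    · omega
    · exact h11
  · omega

end Cfsg.Agent.H619.SB.FiW
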