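import Cfsg.Agent.H619.SB.FiW.Axis
import Cfsg.Agent.H619.SB.FiW.Perm
import Cfsg.Agent.H619.SB.FiW.Lift
import Cfsg.Agent.H841.PB.RankThree
import Cfsg.Agent.H597.Base

/-!
# The character of `Fi24'` on the fixed space of an element of order three of type 3A (helper619)

`exists_psi` : `ψ (π k) = 1/3 ∑ χ₀ (n k)`, and 57477 is a constituent of `ψ` if `ψ 1 < 249458`.
-/

set_option autoImplicit false
set_option maxRecDepth 100000

namespace Cfsg.Agent.H619.SB.FiW

open Cfsg Cfsg.Agent.H849.ThreeNorm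
open Cfsg.Agent.MonsterX Cfsg.Agent.MonsterX.InstData
open Cfsg.Agent.Characters Cfsg.Agent.Characters.Core
open Cfsg.Agent.R08 Cfsg.Agent.R08.FiTwentyFour
open Cfsg.Agent.H816.MSch Cfsg.Agent.H816.IMEig Cfsg.Agent.H816.IMEig.Col
open Cfsg.Spor (Fi24)
open Cfsg.Agent.BpSpor.MBigModel (MG)
open Subgroup (centralizer mem_centralizer_singleton_iff zpowers center)
open scoped BigOperators

/-- the constituents of the rank 3 permutation character -/
theorem exists_chi : letI := H30.GraphFi24.act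
    ∃ χ₁ χ₂ : IrrCharacter Spor.Fi24', charDegree (χ₁ : Spor.Fi24' → ℂ) = 57477 ∧
      charDegree (χ₂ : Spor.Fi24' → ℂ) = 249458 ∧ (∀ x, ((χ₁ : Spor.Fi24' → ℂ) x).im = 0) ∧
      (∀ x, ((χ₂ : Spor.Fi24' → ℂ) x).im = 0) ∧
      ∀ x : Spor.Fi24', (Nat.card (MulAction.fixedBy (L : Set Fi24) x) : ℂ) =
        1 + (χ₁ : Spor.Fi24' → ℂ) x + (χ₂ : Spor.Fi24' → ℂ) x := by
  letI := H30.GraphFi24.act
  have hfin : Finite Spor.Fi24' := H30.GraphFi24.finite_Fi24'
  refine H841.PB.rank3_of H30.GraphFi24.r3 (by norm_num) ?_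
  intro f g D h1 h2 h3
  refine H30.GraphFi24.degrees h1 h2 fun hne => ?_
  obtain ⟨e, -, he, -⟩ := h3 hne
  refine ⟨e.natAbs, ?_⟩
  have h7 : ((D : ℕ) : ℤ) = ((e.natAbs * e.natAbs : ℕ) : ℤ) := by
    rw [he]; push_cast; rw [pow_two, ← abs_mul_abs_self]
  exact_mod_cast h7

variable {x r : MG} {π : centralizer ({x} : Set MG) →* ↥(_root_.commutator Fi24)} (D : Data x r π)
  [Fintype XT] [DecidableEq XT]

/-- the representation of degree 196883 -/
noncomputable abbrev rho : Representation ℂ MG ↥(WW c om) := (isCol.sub om).toRepresentation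

include D in
theorem exists_psi : ∃ ψ : Spor.Fi24' → ℂ, IsCharacter Spor.Fi24' ψ ∧
    (∀ [Fintype π.ker] (k : centralizer ({x} : Set MG)),
      ψ (π k) = (Nat.card π.ker : ℂ)⁻¹ * ∑ n : π.ker, rho.character (((n : centralizer ({x} : Set MG)) * k :
        centralizer ({x} : Set MG)) : MG)) ∧
    ∀ [Fintype Spor.Fi24'] {d : ℕ}, ψ 1 = d → d < 249458 → ∃ χ : IrrCharacter Spor.Fi24',
      charDegree (χ : Spor.Fi24' → ℂ) = 57477 ∧ classInner ψ (χ : Spor.Fi24' → ℂ) ≠ 0 := by
  have hfin : Finite MG := BpSpor.MBigModel.finite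
  have hfF : Finite Fi24 := finite_Fi24
  letI := H30.GraphFi24.act
  let ρK : Representation ℂ (centralizer ({x} : Set MG)) ↥(WW c om) := rho.comp (centralizer ({x} : Set MG)).subtype
  obtain ⟨W, _, _, _, σ, ι, hι, hσ, hfix, hval⟩ := exists_char π D.surj ρK
  have hch : IsCharacter ↥(_root_.commutator Fi24) σ.character := isCharacter_of_rep σ
  refine ⟨σ.character, hch, ?_, ?_⟩
  · intro hft k
    rw [hval]
    rfl
  · intro hft d hd hlt
    obtain ⟨χ₁, χ₂, h1, h2, h3, h4, h5⟩ := exists_chi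
    obtain ⟨b, hb⟩ : ∃ b : Fi24, b ∈ L := by
      have : Nonempty (L : Set Fi24) := by
        have h := H30.GraphFi24.r3.cardn
        exact (Nat.card_pos_iff.1 (by rw [h]; norm_num)).1
      exact ⟨this.some.1, this.some.2⟩
    obtain ⟨u, hu, hux, huk, g, hgu⟩ := exists_u D hb
    -- the vector in the fixed space
    obtain ⟨u₂, hu₂⟩ := hfix ⟨u, hu⟩ (by
      intro n hn
      apply Subtype.ext
      show prep MG XT (n : MG) u = u
      refine huk _ ?_
      rw [show π n = 1 from hn]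
      simp)
    let b' : (L : Set Fi24) := ⟨b, hb⟩
    have ht : ∀ x y : (L : Set Fi24), ∃ g : Spor.Fi24', g • x = y := fun x y => H30.GraphFi24.r3.trans.exists_smul_eq x y
    have hfinL : Finite (L : Set Fi24) := Subtype.finite
    have key := exists_constituent (F := Spor.Fi24') ht h3 h4 h5 σ b' (u := u₂) ?_ (g := π g) ?_
    · rcases key with hk | hk
      · exact ⟨χ₁, h1, hk⟩
      · exfalso
        have h6 := H597.Base.degree_le_of_constituent hch χ₂.2 hd hk
        rw [h2] at h6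
        omega
    · intro y hy
      obtain ⟨k, rfl⟩ := D.surj y
      apply hι
      rw [hσ, hu₂]
      apply Subtype.ext
      show prep MG XT (k : MG) u = u
      refine huk k ?_
      have h6 : ((π k : ↥(_root_.commutator Fi24)) : Fi24) * b * ((π k : ↥(_root_.commutator Fi24)) : Fi24)⁻¹ = b :=
        congrArg Subtype.val hy
      exact mul_inv_eq_iff_eq_mul.1 h6
    · intro h
      have h7 := congrArg ι h
      rw [hσ, hu₂] at h7
      exact hgu (congrArg Subtype.val h7)

end Cfsg.Agent.H619.SB.FiW
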