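import Cfsg.Agent.H619.SB.FiW.Psi

/-!
# The irreducible character of degree 196883 (helper619)
-/

set_option autoImplicit false
set_option maxRecDepth 100000

namespace Cfsg.Agent.H619.SB.FiW

open Cfsg Cfsg.Agent.MonsterX.InstData
open Cfsg.Agent.Characters.Core
open Cfsg.Agent.H816.MEigL Cfsg.Agent.H816.MSch Cfsg.Agent.H816.MDeg Cfsg.Agent.H816.IMEig Cfsg.Agent.H816.IMEig.Col
open Cfsg.Agent.BpSpor.MBigModel (MG)
open scoped BigOperators

variable [Fintype XT] [DecidableEq XT]

theorem hE : Eig (c b0 b1) 0 t ((-249094652625 : ℤ) : ℂ) om := by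
  have h := dat_196883.toEig
  rwa [← c_b1] at h

theorem hSS : SS t om ≠ 0 := by
  intro h0
  have hd := dat_196883.toDeg
  unfold SS om at h0
  have hN : (97239461142009186000 : ℂ) ≠ 0 := by norm_num
  rw [h0, mul_zero] at hd
  exact hN hd.symm

theorem rho_irr : IsIrrCharacter MG rho.character := by
  have := finite_G
  exact isIrrCharacter_of_rep _ (isCol.irr tt_eq hE)

theorem rho_one : rho.character (1 : MG) = 196883 := by
  have := finite_G
  have hd := dat_196883.toDeg
  rw [Representation.char_one]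
  have h1 := isCol.finrank_mul tt_eq hE hSS
  rw [← Nat.card_eq_fintype_card, card_XT] at h1
  have h2 : ((97239461142009186000 : ℕ) : ℂ) = ((196883 : ℕ) : ℂ) * SS t om := by
    rw [← hd]
    rfl
  rw [h2] at h1
  have h3 := mul_right_cancel₀ hSS h1
  rw [h3]
  norm_num

theorem rho_rat (g : MG) : ∃ q : ℚ, rho.character g = q := by
  have := finite_G
  refine ⟨(∑ u, ((∑ w, t u w : ℕ) : ℚ) * ((oi u : ℚ) / 752) ^ 2)⁻¹ * ∑ x : XT, ((oi (c x (g • x)) : ℚ) / 752),
    (H740.K4.Scheme.character_eq isCol tt_eq hE hSS g).trans ?_⟩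
  unfold SS
  simp only [om_eq]
  push_cast
  rfl

end Cfsg.Agent.H619.SB.FiW
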